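import Cfsg.Agent.NotMax.OrthFrameCases

/-!
Non-maximal stabilisers of orthogonal decompositions with tiny members, in matrix form.
-/

set_option autoImplicit false
set_option linter.style.haveILetI false

namespace Cfsg.Agent.NotMax

open QuadraticMap Module Cfsg.Agent.Classical Cfsg.Agent.GeoClasses Cfsg.Agent.DecompMax Cfsg.Geo
open scoped MatrixGroups Matrix

universe u

variable {ι : Type} [Fintype ι] [DecidableEq ι] {F : Type u} [Field F] [Fintype F]
variable {Q : (ι → F) → F} {t k : ℕ} {D : Fin t → Submodule F (ι → F)}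

omit [Fintype F] [DecidableEq ι] in
theorem exists_singular_of_plus (hD : IsOrthogonalMDecomposition Q 2 D) {i : Fin t}
    (hi : IsPlusTypeOn Q (D i)) : ∀ j, ∃ e ∈ D j, e ≠ 0 ∧ Q e = 0 := by
  intro j
  obtain ⟨U, hUW, hU, hd⟩ := isPlusTypeOn_of_isometric (hD.isometric i j) hi
  rw [hD.decomp.decomp.finrank_eq] at hd
  have hne : U ≠ ⊥ := fun e => by rw [e, finrank_bot] at hd; omega
  obtain ⟨e, he, he0⟩ := (Submodule.ne_bot_iff _).1 hne
  exact ⟨e, hUW he, he0, hU e he⟩

theorem anisotropic_of_not_plus (hQ : IsNondegenerateQuadraticForm Q)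
    (hD : IsOrthogonalMDecomposition Q 2 D) (hnp : ∀ i, ¬ IsPlusTypeOn Q (D i)) :
    ∀ i, ∀ x ∈ D i, toQF hQ x = 0 → x = 0 := by
  intro i x hx hQx
  by_contra hx0
  refine hnp i ⟨Submodule.span F {x}, (Submodule.span_singleton_le_iff_mem _ _).2 hx,
    fun s hs => ?_, ?_⟩
  · obtain ⟨r, rfl⟩ := Submodule.mem_span_singleton.1 hs
    show toQF hQ (r • x) = 0
    rw [QuadraticMap.map_smul, hQx, smul_zero]
  · rw [finrank_span_singleton hx0, hD.decomp.decomp.finrank_eq]

/-- The exceptional decompositions have non-maximal stabilisers. -/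
theorem omegaGL_decomposition_not_maximal (hQ : IsNondegenerateQuadraticForm Q)
    (hn : 13 ≤ Fintype.card ι) (hD : IsOrthogonalMDecomposition Q k D)
    (hcase : (k = 2 ∧ (Fintype.card F = 3 ∨ ((∀ i, IsPlusTypeOn Q (D i)) ∧
      (Fintype.card F = 2 ∨ Fintype.card F = 4 ∨ Fintype.card F = 5)))) ∨
      (k = 3 ∧ Fintype.card F = 3) ∨ (k = 4 ∧ Fintype.card F = 2 ∧ ∀ i, IsPlusTypeOn Q (D i))) :
    ∃ K, decompositionStabilizer D ⊓ omegaGL Q < K ∧ K < omegaGL Q := by
  classical
  have h := isOrthDec_toQF hQ (le_trans (by norm_num) hn) hD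
  suffices ∃ K, decompositionStabilizer D ⊓ omegaGL ⇑(toQF hQ) < K ∧ K < omegaGL ⇑(toQF hQ) by
    rwa [coe_toQF] at this
  have h13 : 13 ≤ finrank F (ι → F) := by rw [Module.finrank_fintype_fun_eq_card]; exact hn
  rcases hcase with ⟨rfl, hq⟩ | ⟨rfl, hq⟩ | ⟨rfl, hq, hp⟩
  · rcases hq with hq | ⟨hp, hq⟩
    · by_cases hall : ∃ i, IsPlusTypeOn Q (D i)
      · obtain ⟨i, hi⟩ := hall
        exact hyperbolic_planes_three h h13 hq rfl (exists_singular_of_plus hD hi)
      · push Not at hall
        exact anisotropic_planes_three h h13 hq rfl (anisotropic_of_not_plus hQ hD hall)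
    · have hs := exists_singular_of_plus hD (hp ⟨0, by have := hD.decomp.decomp.two_le; omega⟩)
      rcases hq with hq | hq | hq
      · exact hyperbolic_planes_two h h13 hq rfl hs
      · exact hyperbolic_planes_four h h13 hq rfl hs
      · exact hyperbolic_planes_five h h13 hq rfl hs
  · exact three_spaces_three h h13 hq rfl
  · refine plus_four_spaces_two h h13 hq rfl fun i => ?_
    obtain ⟨U, hU, hts, hd⟩ := hp i
    rw [hD.decomp.decomp.finrank_eq] at hd
    exact ⟨U, hU, fun s hs => hts s hs, by omega⟩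

end Cfsg.Agent.NotMax
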